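import Cfsg.Agent.Compute.J1.Data

/-!
Kernel verification of the J1 certificate.
-/

set_option autoImplicit false
set_option Elab.async false

namespace Cfsg.Agent.Compute.J1

/-- Operations on pairs (permutation of 266 points, matrix). -/
noncomputable def j1Ops : Ops (ℕ × ℕ) := prodOps (permOps 9 266) (matOps 10 7 11)

theorem gens0a_ok : lall (j1ChainLvl0.gens.take 1)
    (fun g => genOK j1Ops j1ChainLvl0 [j1ChainLvl1, j1ChainLvl2] g) = true := by
  decide +kernel

theorem gens0b_ok : lall ((j1ChainLvl0.gens.drop 1).take 1)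
    (fun g => genOK j1Ops j1ChainLvl0 [j1ChainLvl1, j1ChainLvl2] g) = true := by
  decide +kernel

theorem gens0c_ok : lall ((j1ChainLvl0.gens.drop 1).drop 1)
    (fun g => genOK j1Ops j1ChainLvl0 [j1ChainLvl1, j1ChainLvl2] g) = true := by
  decide +kernel

theorem gens0_ok : lall j1ChainLvl0.gens
    (fun g => genOK j1Ops j1ChainLvl0 [j1ChainLvl1, j1ChainLvl2] g) = true := by
  rw [lall_iff, ← List.take_append_drop 1 j1ChainLvl0.gens, List.forall_mem_append,
    ← List.take_append_drop 1 (j1ChainLvl0.gens.drop 1), List.forall_mem_append]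
  exact ⟨(lall_iff _ _).1 gens0a_ok, (lall_iff _ _).1 gens0b_ok, (lall_iff _ _).1 gens0c_ok⟩

theorem level0_ok : levelOK j1Ops j1ChainLvl0 [j1ChainLvl1, j1ChainLvl2] = true := by
  unfold levelOK
  simp only [gens0_ok, Bool.and_true]
  decide +kernel

theorem level1_ok : levelOK j1Ops j1ChainLvl1 [j1ChainLvl2] = true := by decide +kernel

theorem level2_ok : levelOK j1Ops j1ChainLvl2 [] = true := by decide +kernel

theorem chain_ok : checkChain j1Ops j1Chain = true := by
  show (levelOK j1Ops j1ChainLvl0 [j1ChainLvl1, j1ChainLvl2] &&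
    (levelOK j1Ops j1ChainLvl1 [j1ChainLvl2] && (levelOK j1Ops j1ChainLvl2 [] && true))) = true
  simp only [level0_ok, level1_ok, level2_ok, Bool.and_true]

theorem gen_ok : genBy j1Ops j1Chain j1Prim j1Words = true := by decide +kernel

theorem prim_ok : lall (j1Prim.zip j1PrimInv) (fun a => j1Ops.okInv a.1 a.2) = true := by
  decide +kernel

theorem x19_ok : selfCentralising j1Ops j1ChainLvl0 [j1ChainLvl1, j1ChainLvl2] j1x19 j1x19Inv 19
    j1x19Pows = true := by
  decide +kernel

theorem x11_ok : selfCentralising j1Ops j1ChainLvl0 [j1ChainLvl1, j1ChainLvl2] j1x11 j1x11Inv 11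
    j1x11Pows = true := by
  decide +kernel

theorem x7_ok : selfCentralising j1Ops j1ChainLvl0 [j1ChainLvl1, j1ChainLvl2] j1x7 j1x7Inv 7
    j1x7Pows = true := by
  decide +kernel

end Cfsg.Agent.Compute.J1
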