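import Cfsg.Agent.Compute.J1.GenData
import Cfsg.Agent.Compute.J1.Check

/-!
Kernel verification of the generation certificates.
-/

set_option autoImplicit false

namespace Cfsg.Agent.Compute.J1

/-- `y = a x a⁻¹` with `a` in the group, and `x, y` generate the group. -/
noncomputable def conjGen (x : ℕ × ℕ) (a y : (ℕ × ℕ) × ℕ × ℕ) (ws : List (List ℕ)) : Bool :=
  j1Ops.okInv a.1 a.2 && j1Ops.okInv y.1 y.2 && sift j1Ops j1Chain a.1 &&
    j1Ops.eqv (j1Ops.mul y.1 a.1) (j1Ops.mul a.1 x) && genBy j1Ops j1Chain [x, y.1] ws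

theorem x19_gen : conjGen j1x19 j1a19 j1y19 j1x19Words = true := by decide +kernel

theorem x11_gen : conjGen j1x11 j1a11 j1y11 j1x11Words = true := by decide +kernel

theorem x7_gen : conjGen j1x7 j1a7 j1y7 j1x7Words = true := by decide +kernel

theorem primMat_ok : lall (List.range 7) (fun i => lall (List.range 7) (fun j =>
    Nat.beq (getP 10 (nth (0, 0) j1Prim 0).2 (i * 7 + j))
      (cond (Nat.beq j ((i + 1) % 7)) 1 0))) = true := by
  decide +kernel

end Cfsg.Agent.Compute.J1
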