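import Cfsg.Prelude.Def_Spor_J1
import Cfsg.Agent.Compute.Simplicity
import Cfsg.Agent.Compute.J1.GenCheck

/-!
The Janko group J1 in its 7-dimensional model over ZMod 11: order 175560, simplicity, and the
isomorphism with a permutation group on 266 points.
-/

set_option autoImplicit false

namespace Cfsg.Agent.Compute.J1

/-- Pairs of a permutation of 266 points and a matrix. -/
noncomputable def j1Sound :
    Sound (G := Equiv.Perm (Fin 266) × GL (Fin 7) (ZMod 11)) j1Ops :=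
  Sound.prod (permSound 9 266 (by norm_num))
    (matSound 10 7 11 (by norm_num) (by norm_num) (by norm_num))

/-- The certified group of pairs. -/
noncomputable def pairGrp : Subgroup (Equiv.Perm (Fin 266) × GL (Fin 7) (ZMod 11)) :=
  j1Sound.grp j1Chain

theorem card_pairGrp : Nat.card pairGrp = 175560 := by
  have h := (checkChain_sound j1Sound chain_ok).card
  rw [pairGrp, h]
  decide +kernel

theorem normalClosure_x {x xi : ℕ × ℕ} {a y : (ℕ × ℕ) × ℕ × ℕ} {ws : List (List ℕ)}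
    (hx : j1Ops.okInv x xi = true) (h : conjGen x a y ws = true)
    (xx : pairGrp) (hxx : (xx : Equiv.Perm (Fin 266) × GL (Fin 7) (ZMod 11)) = j1Sound.den x) :
    Subgroup.normalClosure ({xx} : Set pairGrp) = ⊤ := by
  simp only [conjGen, Bool.and_eq_true] at h
  obtain ⟨⟨⟨⟨ha, hy⟩, hs⟩, he⟩, hg⟩ := h
  have ox := (j1Sound.okInv_sound hx).1
  have oa := (j1Sound.okInv_sound ha).1
  have oy := (j1Sound.okInv_sound hy).1
  have M := checkChain_sound j1Sound chain_ok
  have hgrp := genBy_sound j1Sound chain_ok hg (fun b hb => by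
    rcases List.mem_cons.1 hb with rfl | hb
    · exact ox
    · rw [List.mem_singleton] at hb; exact hb ▸ oy)
  let A : pairGrp := ⟨j1Sound.den a.1, (M.sift_iff _ oa).1 hs⟩
  have hyA : j1Sound.den y.1 = j1Sound.den a.1 * j1Sound.den x * (j1Sound.den a.1)⁻¹ := by
    rw [eq_mul_inv_iff_mul_eq, ← j1Sound.den_mul oy oa, ← j1Sound.den_mul oa ox]
    exact (j1Sound.eqv_iff (j1Sound.ok_mul oy oa) (j1Sound.ok_mul oa ox)).1 he
  refine normalClosure_eq_top_of_conj (s := {xx, A * xx * A⁻¹}) ?_ ?_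
  · rw [eq_top_iff]
    intro g _
    have hg' : (g : Equiv.Perm (Fin 266) × GL (Fin 7) (ZMod 11)) ∈
        (Subgroup.closure ({xx, A * xx * A⁻¹} : Set pairGrp)).map pairGrp.subtype := by
      rw [MonoidHom.map_closure]
      have hgm : (g : Equiv.Perm (Fin 266) × GL (Fin 7) (ZMod 11)) ∈ j1Sound.grp j1Chain := g.2
      rw [hgrp] at hgm
      refine Subgroup.closure_mono ?_ hgm
      rintro _ ⟨b, hb, rfl⟩
      rcases List.mem_cons.1 hb with rfl | hb
      · exact ⟨xx, Or.inl rfl, hxx⟩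
      · rw [List.mem_singleton] at hb
        subst hb
        exact ⟨A * xx * A⁻¹, Or.inr rfl, by simp [A, hxx, hyA]⟩
    obtain ⟨k, hk, hke⟩ := hg'
    exact (Subtype.ext hke : k = g) ▸ hk
  · intro b hb
    rcases hb with rfl | rfl
    · exact IsConj.refl _
    · exact isConj_iff.2 ⟨A, rfl⟩

/-- Congruence and avoidance for each of the three primes. -/
theorem normal_card (N : Subgroup pairGrp) [N.Normal] (hN : N ≠ ⊤) :
    (¬ 19 ∣ Nat.card N ∧ Nat.card N % 19 = 1) ∧ (¬ 11 ∣ Nat.card N ∧ Nat.card N % 11 = 1) ∧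
      (¬ 7 ∣ Nat.card N ∧ Nat.card N % 7 = 1) := by
  have key : ∀ {x xi : ℕ × ℕ} {p : ℕ} {cs : List ((ℕ × ℕ) × (ℕ × ℕ) × ℕ)}
      {a y : (ℕ × ℕ) × ℕ × ℕ} {ws : List (List ℕ)}, p.Prime → ¬ p ^ 2 ∣ 175560 →
      selfCentralising j1Ops j1ChainLvl0 [j1ChainLvl1, j1ChainLvl2] x xi p cs = true →
      conjGen x a y ws = true → ¬ p ∣ Nat.card N ∧ Nat.card N % p = 1 := by
    intro x xi p cs a y ws hp hp2 hs hg
    have : Fact p.Prime := ⟨hp⟩
    have hx : j1Ops.okInv x xi = true := by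
      simp only [selfCentralising, Bool.and_eq_true] at hs
      exact hs.1.1.1.1.1.1
    obtain ⟨xx, hxx, hord, hcent⟩ := selfCentralising_sound j1Sound hp
      (l := j1ChainLvl0) (ls := [j1ChainLvl1, j1ChainLvl2]) chain_ok hs
    exact proper_normal_card_self (G := pairGrp) hord (card_pairGrp ▸ hp2)
      (normalClosure_x hx hg xx hxx) hcent N hN
  exact ⟨key (by norm_num) (by norm_num) x19_ok x19_gen,
    key (by norm_num) (by norm_num) x11_ok x11_gen, key (by norm_num) (by norm_num) x7_ok x7_gen⟩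

theorem small_divisors :
    ∀ d < 121, d ∣ 120 → d % 19 = 1 → d % 11 = 1 → d % 7 = 1 → d = 1 := by
  decide +kernel

theorem isSimple_pairGrp : IsSimpleGroup pairGrp := by
  refine isSimpleGroup_of_normal_card 175560 card_pairGrp (by norm_num)
    (fun d => (¬ 19 ∣ d ∧ d % 19 = 1) ∧ (¬ 11 ∣ d ∧ d % 11 = 1) ∧ (¬ 7 ∣ d ∧ d % 7 = 1))
    (fun N hN hne => normal_card N hne) ?_
  rintro d hd ⟨⟨h19, m19⟩, ⟨h11, m11⟩, ⟨h7, m7⟩⟩
  have c19 : Nat.Coprime d 19 := ((Nat.Prime.coprime_iff_not_dvd (by norm_num)).2 h19).symm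
  have c11 : Nat.Coprime d 11 := ((Nat.Prime.coprime_iff_not_dvd (by norm_num)).2 h11).symm
  have c7 : Nat.Coprime d 7 := ((Nat.Prime.coprime_iff_not_dvd (by norm_num)).2 h7).symm
  have h : d ∣ 120 := c7.dvd_of_dvd_mul_right (c11.dvd_of_dvd_mul_right (c19.dvd_of_dvd_mul_right
    (show d ∣ 120 * 7 * 11 * 19 by norm_num; exact hd)))
  exact small_divisors d (by have := Nat.le_of_dvd (by norm_num) h; omega) h m19 m11 m7

theorem prim_val_x : ∀ i j : Fin 7, (Cfsg.jankoMatrixX i j).val =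
    getP 10 (nth (0, 0) j1Prim 0).2 ((i : ℕ) * 7 + j) := by
  decide +kernel

theorem prim_den_x :
    (j1Sound.den (nth (0, 0) j1Prim 0)).2 = Cfsg.Spor.jankoX := by
  refine matSound_den_eq (by norm_num) (by norm_num) (by norm_num) ?_ _ ?_
  · have h := (lall_iff _ _).1 prim_ok (nth (0, 0) j1Prim 0, nth (0, 0) j1PrimInv 0)
      (by simp [j1Prim, j1PrimInv, nth])
    exact (j1Sound.okInv_sound h).1.2
  · intro i j
    show Cfsg.jankoMatrixX i j = _
    rw [toMat, ← prim_val_x, ZMod.natCast_zmod_val]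

theorem prim_val_y : ∀ i j : Fin 7, (Cfsg.jankoMatrixY i j).val =
    getP 10 (nth (0, 0) j1Prim 1).2 ((i : ℕ) * 7 + j) := by
  decide +kernel

theorem prim_den_y :
    (j1Sound.den (nth (0, 0) j1Prim 1)).2 = Cfsg.Spor.jankoY := by
  refine matSound_den_eq (by norm_num) (by norm_num) (by norm_num) ?_ _ ?_
  · have h := (lall_iff _ _).1 prim_ok (nth (0, 0) j1Prim 1, nth (0, 0) j1PrimInv 1)
      (by simp [j1Prim, j1PrimInv, nth])
    exact (j1Sound.okInv_sound h).1.2
  · intro i j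
    show Cfsg.jankoMatrixY i j = _
    rw [toMat, ← prim_val_y, ZMod.natCast_zmod_val]

theorem map_snd_pairGrp :
    pairGrp.map (MonoidHom.snd (Equiv.Perm (Fin 266)) (GL (Fin 7) (ZMod 11))) = Cfsg.Spor.J1 := by
  have hp : ∀ a ∈ j1Prim, j1Sound.ok a := by
    intro a ha
    have h := (lall_iff _ _).1 prim_ok
    obtain ⟨i, hi, rfl⟩ := List.getElem_of_mem ha
    have hlen : j1PrimInv.length = j1Prim.length := by simp [j1Prim, j1PrimInv]
    exact (j1Sound.okInv_sound (h (j1Prim[i], j1PrimInv[i]'(hlen ▸ hi))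
      (List.mem_iff_getElem.2 ⟨i, by simpa [hlen] using hi, List.getElem_zip⟩))).1
  rw [pairGrp, genBy_sound j1Sound chain_ok gen_ok hp, MonoidHom.map_closure, Cfsg.Spor.J1]
  congr 1
  rw [← prim_den_x, ← prim_den_y]
  ext g
  simp only [Set.mem_image, Set.mem_insert_iff, Set.mem_singleton_iff, exists_exists_and_eq_and]
  constructor
  · rintro ⟨a, ha, rfl⟩
    have hl : j1Prim = [nth (0, 0) j1Prim 0, nth (0, 0) j1Prim 1] := rfl
    change a ∈ j1Prim at ha
    rw [hl] at ha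
    rcases List.mem_cons.1 ha with rfl | ha
    · exact Or.inl rfl
    · rw [List.mem_singleton] at ha; exact Or.inr (ha ▸ rfl)
  · rintro (rfl | rfl)
    · exact ⟨_, nth_mem _ _ 0 (by simp [j1Prim]), rfl⟩
    · exact ⟨_, nth_mem _ _ 1 (by simp [j1Prim]), rfl⟩

/-- The pairs form the graph of an isomorphism with J1. -/
theorem nonempty_equiv : Nonempty (pairGrp ≃* ↥Cfsg.Spor.J1) := by
  have := isSimple_pairGrp
  let f : pairGrp →* GL (Fin 7) (ZMod 11) :=
    (MonoidHom.snd (Equiv.Perm (Fin 266)) (GL (Fin 7) (ZMod 11))).comp pairGrp.subtype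
  have hr : f.range = Cfsg.Spor.J1 := by
    rw [← map_snd_pairGrp, MonoidHom.range_eq_map, ← Subgroup.map_map,
      ← MonoidHom.range_eq_map, Subgroup.range_subtype]
  obtain ⟨e⟩ := nonempty_equiv_range_of_simple f (by
    by_contra hc
    push Not at hc
    have hx : Cfsg.Spor.jankoX ∈ Cfsg.Spor.J1 := Subgroup.subset_closure (Or.inl rfl)
    rw [← hr] at hx
    obtain ⟨g, hg⟩ := hx
    rw [hc g] at hg
    exact absurd (congrArg (fun u : GL (Fin 7) (ZMod 11) =>
      (u : Matrix (Fin 7) (Fin 7) (ZMod 11)) 0 0) hg) (by decide +kernel))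
  exact ⟨e.trans (MulEquiv.subgroupCongr hr)⟩

theorem card_J1 : Nat.card ↥Cfsg.Spor.J1 = 175560 := by
  obtain ⟨e⟩ := nonempty_equiv
  rw [← Nat.card_congr e.toEquiv, card_pairGrp]

theorem isSimple_J1 : IsSimpleGroup ↥Cfsg.Spor.J1 := by
  obtain ⟨e⟩ := nonempty_equiv
  have := isSimple_pairGrp
  exact MulEquiv.isSimpleGroup e.symm

/-- The permutation representation of J1 on 266 points. -/
theorem exists_perm_rep : ∃ f : ↥Cfsg.Spor.J1 →* Equiv.Perm (Fin 266), Function.Injective f := by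
  obtain ⟨e⟩ := nonempty_equiv
  have := isSimple_pairGrp
  let f : pairGrp →* Equiv.Perm (Fin 266) :=
    (MonoidHom.fst (Equiv.Perm (Fin 266)) (GL (Fin 7) (ZMod 11))).comp pairGrp.subtype
  have hf : Function.Injective f := by
    rw [← MonoidHom.ker_eq_bot_iff]
    rcases IsSimpleGroup.eq_bot_or_eq_top_of_normal f.ker inferInstance with hk | hk
    · exact hk
    · exfalso
      have horb := (orbit_iff j1Sound (l := j1ChainLvl0) (ls := [j1ChainLvl1, j1ChainLvl2])
        chain_ok (nth 0 (j1ChainLvl0.orb.map Entry.pt) 1)).2 (nth_mem _ _ 1 (by decide +kernel))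
      obtain ⟨g, hg, hgp⟩ := horb
      have h1 : f ⟨g, hg⟩ = 1 := MonoidHom.mem_ker.1 (hk ▸ Subgroup.mem_top _)
      have h1' : g.1 = 1 := h1
      have h2 : (permSound 9 266 (by norm_num)).act g.1 j1ChainLvl0.base =
          nth 0 (j1ChainLvl0.orb.map Entry.pt) 1 := hgp
      rw [h1', Sound.act_one] at h2
      revert h2
      decide +kernel
  exact ⟨f.comp e.symm.toMonoidHom, hf.comp e.symm.injective⟩

end Cfsg.Agent.Compute.J1
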