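import Cfsg.Agent.Compute.J1.Classes
import Cfsg.Agent.Compute.J1.CentData

/-!
The centraliser of an involution of J1 is C2 × A5.
-/

set_option autoImplicit false

namespace Cfsg.Agent.Compute.J1

/-- Pairs (J1 element, permutation of seven points). -/
noncomputable def centOps : Ops ((ℕ × ℕ) × ℕ) := prodOps j1Ops (permOps 3 7)

theorem centA_ok : checkChain centOps centA = true ∧
    genBy centOps centA (centGens.map Prod.fst) centAWords = true := by
  constructor <;> decide +kernel

theorem centB_ok : checkChain (permOps 3 7) centB = true ∧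
    genBy (permOps 3 7) centB (centGens.map (fun g => g.1.2)) centBWords = true := by
  constructor <;> decide +kernel

theorem centGens_ok : lall centGens (fun g => centOps.okInv g.1 g.2 && sift j1Ops j1Chain g.1.1 &&
    j1Ops.eqv (j1Ops.mul g.1.1 c2t10.1) (j1Ops.mul c2t10.1 g.1.1)) = true := by
  decide +kernel

/-- Soundness for seven points. -/
noncomputable def seven : Sound (G := Equiv.Perm (Fin 7)) (permOps 3 7) :=
  permSound 3 7 (by norm_num)

/-- Soundness for the pairs. -/
noncomputable def centSound :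
    Sound (G := (Equiv.Perm (Fin 266) × GL (Fin 7) (ZMod 11)) × Equiv.Perm (Fin 7)) centOps :=
  Sound.prod j1Sound seven

/-- `(ε, σ)` as a permutation of `5 + 2` points. -/
def twoByFive : Multiplicative (ZMod 2) × ↥(alternatingGroup (Fin 5)) →* Equiv.Perm (Fin 7) :=
  (finSumFinEquiv (m := 5) (n := 2)).permCongrHom.toMonoidHom.comp
    ((Equiv.Perm.sumCongrHom (Fin 5) (Fin 2)).comp
      { toFun := fun x => (x.2.1, Equiv.addRight (x.1.toAdd : ZMod 2))
        map_one' := by decide
        map_mul' := fun x y => by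
          refine Prod.ext rfl ?_
          show Equiv.addRight ((x.1 * y.1).toAdd : ZMod 2) =
            Equiv.addRight (x.1.toAdd : ZMod 2) * Equiv.addRight (y.1.toAdd : ZMod 2)
          have key : ∀ a b : ZMod 2,
              Equiv.addRight (a + b) = Equiv.addRight a * Equiv.addRight b := by decide
          exact key _ _ })

theorem twoByFive_injective : Function.Injective twoByFive := by
  intro x y h
  simp only [twoByFive, MonoidHom.coe_comp, MulEquiv.coe_toMonoidHom, Function.comp_apply,
    EmbeddingLike.apply_eq_iff_eq] at h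
  have h' := Equiv.Perm.sumCongrHom_injective h
  simp only [MonoidHom.coe_mk, OneHom.coe_mk, Prod.mk.injEq] at h'
  refine Prod.ext ?_ (Subtype.ext h'.1)
  have key : ∀ a b : Multiplicative (ZMod 2),
      Equiv.addRight (a.toAdd : ZMod 2) = Equiv.addRight (b.toAdd : ZMod 2) → a = b := by decide
  exact key _ _ h'.2

theorem card_twoByFive : Nat.card (Multiplicative (ZMod 2) × ↥(alternatingGroup (Fin 5))) = 120 := by
  have h2 : Nat.card (Multiplicative (ZMod 2)) = 2 :=
    (Nat.card_congr Multiplicative.toAdd).trans (Nat.card_zmod 2)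
  rw [Nat.card_prod, h2, nat_card_alternatingGroup, Nat.card_fin]
  rfl

theorem centB_range : (seven.grp centB) = twoByFive.range := by
  have hok : ∀ a ∈ centGens.map (fun g => g.1.2), seven.ok a := by
    intro a ha
    obtain ⟨g, hg, rfl⟩ := List.mem_map.1 ha
    have := (lall_iff _ _).1 centGens_ok g hg
    simp only [Bool.and_eq_true] at this
    exact (centSound.okInv_sound this.1.1).1.2
  have hcard : Nat.card (seven.grp centB) = 120 := (checkChain_sound seven centB_ok.1).card.trans rfl
  have hle : seven.grp centB ≤ twoByFive.range := by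
    rw [genBy_sound seven centB_ok.1 centB_ok.2 hok, Subgroup.closure_le]
    rintro _ ⟨a, ha, rfl⟩
    change a ∈ centGens.map (fun g => g.1.2) at ha
    have hv : ∀ i : Fin 3, ∃ x : Multiplicative (ZMod 2) × Equiv.Perm (Fin 5),
        Equiv.Perm.sign x.2 = 1 ∧ ∀ p : Fin 7,
          ((finSumFinEquiv (m := 5) (n := 2)) (Equiv.sumCongr x.2
            (Equiv.addRight (x.1.toAdd : ZMod 2)) ((finSumFinEquiv (m := 5) (n := 2)).symm p)) : ℕ) =
              getP 3 (nth 0 (centGens.map (fun g => g.1.2)) i) p := by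
      decide +kernel
    obtain ⟨i, hi, rfl⟩ := List.getElem_of_mem ha
    have hlen : (centGens.map (fun g => g.1.2)).length = 3 := rfl
    obtain ⟨x, hx, hxp⟩ := hv ⟨i, hlen ▸ hi⟩
    refine ⟨(x.1, ⟨x.2, hx⟩), Equiv.ext fun p => Fin.ext ?_⟩
    show _ = ((permDen 3 7 _ p : Fin 7) : ℕ)
    rw [permDen_apply (hok _ (List.getElem_mem _))]
    rw [show (nth 0 (centGens.map (fun g => g.1.2)) i) = (centGens.map (fun g => g.1.2))[i] from
      nth_eq_getElem _ _ _ hi] at hxp
    exact hxp p
  have hr : Nat.card twoByFive.range = 120 := by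
    rw [← Nat.card_congr (MonoidHom.ofInjective twoByFive_injective).toEquiv, card_twoByFive]
  exact Subgroup.eq_of_le_of_card_ge hle (by rw [hcard, hr])

theorem centralizer_rep_one : Nonempty (↥(Subgroup.centralizer ({rep 1} : Set pairGrp)) ≃*
    Multiplicative (ZMod 2) × ↥(alternatingGroup (Fin 5))) := by
  have hgk : ∀ a ∈ centGens.map Prod.fst, centSound.ok a ∧ j1Sound.den a.1 ∈ pairGrp ∧
      Commute (j1Sound.den a.1) (j1Sound.den c2t10.1) := by
    intro a ha
    obtain ⟨g, hg, rfl⟩ := List.mem_map.1 ha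
    have := (lall_iff _ _).1 centGens_ok g hg
    simp only [Bool.and_eq_true] at this
    have ok : centSound.ok g.1 := (centSound.okInv_sound this.1.1).1
    have ot : j1Sound.ok c2t10.1 := (row_mem 1).1
    refine ⟨ok, ((checkChain_sound j1Sound chain_ok).sift_iff _ ok.1).1 this.1.2, ?_⟩
    show _ * _ = _ * _
    rw [← j1Sound.den_mul ok.1 ot, ← j1Sound.den_mul ot ok.1]
    exact (j1Sound.eqv_iff (j1Sound.ok_mul ok.1 ot) (j1Sound.ok_mul ot ok.1)).1 this.2
  have hK := genBy_sound centSound centA_ok.1 centA_ok.2 fun a ha => (hgk a ha).1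
  let K := centSound.grp centA
  have hKcard : Nat.card K = 120 := (checkChain_sound centSound centA_ok.1).card.trans rfl
  have hsub : ∀ x ∈ K, x.1 ∈ pairGrp ∧ Commute x.1 (j1Sound.den c2t10.1) := by
    intro x hx
    have hle : K ≤ (pairGrp ⊓ Subgroup.centralizer {j1Sound.den c2t10.1}).comap
        (MonoidHom.fst (Equiv.Perm (Fin 266) × GL (Fin 7) (ZMod 11)) (Equiv.Perm (Fin 7))) := by
      show centSound.grp centA ≤ _
      rw [hK, Subgroup.closure_le]
      rintro _ ⟨a, ha, rfl⟩
      exact ⟨(hgk a ha).2.1, Subgroup.mem_centralizer_singleton_iff.2 (hgk a ha).2.2.eq⟩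
    exact ⟨(hle hx).1, Subgroup.mem_centralizer_singleton_iff.1 (hle hx).2⟩
  let f : K →* Subgroup.centralizer ({rep 1} : Set pairGrp) :=
    { toFun := fun x => ⟨⟨x.1.1, (hsub x.1 x.2).1⟩,
        Subgroup.mem_centralizer_singleton_iff.2 (Subtype.ext (hsub x.1 x.2).2.eq)⟩
      map_one' := rfl
      map_mul' := fun _ _ => rfl }
  have hf : Function.Injective f := by
    intro x y h
    refine Subtype.ext (eq_of_bases centSound centA_ok.1 x.2 y.2 fun b _ => ?_)
    have h1 : x.1.1 = y.1.1 := congrArg (fun z : Subgroup.centralizer ({rep 1} : Set pairGrp) =>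
      ((z : pairGrp) : Equiv.Perm (Fin 266) × GL (Fin 7) (ZMod 11))) h
    show j1Sound.act x.1.1 b = j1Sound.act y.1.1 b
    rw [h1]
  have hfb : Function.Bijective f :=
    (Nat.bijective_iff_injective_and_card f).2 ⟨hf, by rw [hKcard, card_cent_rep]; rfl⟩
  let g : K →* Equiv.Perm (Fin 7) :=
    (MonoidHom.snd (Equiv.Perm (Fin 266) × GL (Fin 7) (ZMod 11)) (Equiv.Perm (Fin 7))).comp
      K.subtype
  have hgr : g.range = twoByFive.range := by
    rw [← centB_range, genBy_sound seven centB_ok.1 centB_ok.2 (fun a ha => by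
      obtain ⟨c, hc, rfl⟩ := List.mem_map.1 ha
      exact (hgk c.1 (List.mem_map_of_mem hc)).1.2)]
    show ((MonoidHom.snd _ _).comp (centSound.grp centA).subtype).range = _
    rw [MonoidHom.range_eq_map, ← Subgroup.map_map, ← MonoidHom.range_eq_map, Subgroup.range_subtype,
      hK, MonoidHom.map_closure]
    congr 1
    ext z
    constructor
    · rintro ⟨_, ⟨a, ha, rfl⟩, rfl⟩
      obtain ⟨c, hc, rfl⟩ := List.mem_map.1 ha
      exact ⟨c.1.2, List.mem_map.2 ⟨c, hc, rfl⟩, rfl⟩
    · rintro ⟨b, hb, rfl⟩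
      obtain ⟨c, hc, rfl⟩ := List.mem_map.1 hb
      exact ⟨_, ⟨c.1, List.mem_map_of_mem hc, rfl⟩, rfl⟩
  have hg : Function.Injective g := by
    rw [← MonoidHom.ker_eq_bot_iff]
    have hrc : Nat.card g.range = 120 := by
      rw [hgr, ← Nat.card_congr (MonoidHom.ofInjective twoByFive_injective).toEquiv, card_twoByFive]
    have := g.ker.index_mul_card
    rw [Subgroup.index_ker, hrc, hKcard] at this
    exact g.ker.eq_bot_of_card_eq (by omega)
  exact ⟨(MulEquiv.ofBijective f hfb).symm.trans
    ((MonoidHom.ofInjective hg).trans ((MulEquiv.subgroupCongr hgr).trans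
      (MonoidHom.ofInjective twoByFive_injective).symm))⟩

/-- J1 has an involution with centraliser C2 × A5. -/
theorem centralizer_J1 : ∃ t : ↥Cfsg.Spor.J1, orderOf t = 2 ∧
    Nonempty (↥(Subgroup.centralizer ({t} : Set ↥Cfsg.Spor.J1)) ≃*
      Multiplicative (ZMod 2) × ↥(alternatingGroup (Fin 5))) := by
  obtain ⟨e⟩ := nonempty_equiv
  obtain ⟨c⟩ := centralizer_rep_one
  refine ⟨e (rep 1), by rw [MulEquiv.orderOf_eq, orderOf_rep]; rfl, ⟨?_⟩⟩
  refine MulEquiv.trans (MulEquiv.trans (MulEquiv.subgroupCongr ?_)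
    (Subgroup.equivMapOfInjective (Subgroup.centralizer {rep 1}) e.toMonoidHom e.injective).symm) c
  ext y
  rw [Subgroup.mem_map, Subgroup.mem_centralizer_singleton_iff]
  constructor
  · intro h
    refine ⟨e.symm y, Subgroup.mem_centralizer_singleton_iff.2 ?_, e.apply_symm_apply y⟩
    apply e.injective
    simpa using h
  · rintro ⟨x, hx, rfl⟩
    rw [Subgroup.mem_centralizer_singleton_iff] at hx
    simpa using congrArg e hx

end Cfsg.Agent.Compute.J1
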