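import Cfsg.Agent.Compute.J1.ClassData
import Cfsg.Agent.Compute.J1.Check
import Cfsg.Agent.Compute.Classes

/-!
Kernel checks for the class representatives of J1.
-/

set_option autoImplicit false
set_option Elab.async false

namespace Cfsg.Agent.Compute.J1

/-- Trace of the matrix component, reduced mod 11. -/
noncomputable def traceCode (a : ℕ × ℕ) : ℕ :=
  Nat.mod (sumN 7 (fun i => getP 10 a.2 (i * 7 + i))) 11

/-- Validity, membership, exact order and trace of one row. -/
noncomputable def rowOK (r : ((ℕ × ℕ) × ℕ × ℕ) × ℕ × ℕ × ℕ) : Bool :=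
  j1Ops.okInv r.1.1 r.1.2 && sift j1Ops j1Chain r.1.1 &&
    j1Ops.eqv (powR j1Ops r.1.1 r.2.1) j1Ops.one &&
    lall ((List.range r.2.1).filter (fun d => Nat.beq (r.2.1 % d) 0 && !(Nat.beq d 0)))
      (fun d => !(j1Ops.eqv (powR j1Ops r.1.1 d) j1Ops.one)) &&
    Nat.beq (traceCode r.1.1) r.2.2.1

theorem rows_ok : lall classTable rowOK = true := by decide +kernel

theorem cent2 : centCount j1Ops j1Chain c2t10.1 = 120 := by decide +kernel
theorem cent3 : centCount j1Ops j1Chain c3t1.1 = 30 := by decide +kernel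
theorem cent5a : centCount j1Ops j1Chain c5t3.1 = 30 := by decide +kernel
theorem cent5b : centCount j1Ops j1Chain c5t7.1 = 30 := by decide +kernel
theorem cent6 : centCount j1Ops j1Chain c6t10.1 = 6 := by decide +kernel
theorem cent11 : centCount j1Ops j1Chain c11t7.1 = 11 := by decide +kernel

theorem cent10a : centCountVia j1Ops j1Chain (powR j1Ops c10t5.1 5) c10t5.1 = 10 := by
  decide +kernel
theorem cent10b : centCountVia j1Ops j1Chain (powR j1Ops c10t9.1 5) c10t9.1 = 10 := by
  decide +kernel
theorem cent15a : centCountVia j1Ops j1Chain (powR j1Ops c15t5.1 5) c15t5.1 = 15 := by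
  decide +kernel
theorem cent15b : centCountVia j1Ops j1Chain (powR j1Ops c15t8.1 5) c15t8.1 = 15 := by
  decide +kernel

theorem cent7 : selfCentralising j1Ops j1ChainLvl0 [j1ChainLvl1, j1ChainLvl2] c7t0.1 c7t0.2 7
    j1x7Pows = true := by decide +kernel
theorem cent19a : selfCentralising j1Ops j1ChainLvl0 [j1ChainLvl1, j1ChainLvl2] c19t2.1 c19t2.2 19
    c19t2Pows = true := by decide +kernel
theorem cent19b : selfCentralising j1Ops j1ChainLvl0 [j1ChainLvl1, j1ChainLvl2] c19t4.1 c19t4.2 19
    c19t4Pows = true := by decide +kernel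
theorem cent19c : selfCentralising j1Ops j1ChainLvl0 [j1ChainLvl1, j1ChainLvl2] c19t7.1 c19t7.2 19
    c19t7Pows = true := by decide +kernel

end Cfsg.Agent.Compute.J1
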