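import Cfsg.Agent.Compute.J1.Basic
import Cfsg.Agent.Compute.J1.ClassCheck

/-!
The fifteen conjugacy classes of J1, the set of its element orders, and transport to the matrix model.
-/

set_option autoImplicit false

namespace Cfsg.Agent.Compute.J1

theorem classTable_length : classTable.length = 15 := rfl

/-- Row `i` of the table. -/
noncomputable def row (i : Fin 15) : ((ℕ × ℕ) × ℕ × ℕ) × ℕ × ℕ × ℕ :=
  classTable[(i : ℕ)]'(classTable_length.symm ▸ i.2)

theorem row_ok (i : Fin 15) : rowOK (row i) = true :=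
  (lall_iff _ _).1 rows_ok _ (List.getElem_mem _)

theorem row_mem (i : Fin 15) :
    j1Sound.ok (row i).1.1 ∧ j1Sound.den (row i).1.1 ∈ pairGrp := by
  have h := row_ok i
  simp only [rowOK, Bool.and_eq_true] at h
  have ok := (j1Sound.okInv_sound h.1.1.1.1).1
  exact ⟨ok, ((checkChain_sound j1Sound chain_ok).sift_iff _ ok).1 h.1.1.1.2⟩

/-- Representative of class `i`. -/
noncomputable def rep (i : Fin 15) : pairGrp := ⟨j1Sound.den (row i).1.1, (row_mem i).2⟩

theorem orderOf_rep (i : Fin 15) : orderOf (rep i) = (row i).2.1 := by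
  have h := row_ok i
  simp only [rowOK, Bool.and_eq_true, lall_iff, List.mem_filter, List.mem_range, Bool.not_eq_true',
    Nat.beq_eq] at h
  obtain ⟨⟨⟨-, hpow⟩, hmin⟩, -⟩ := h
  obtain ⟨hok, -⟩ := row_mem i
  have hn : rep i ^ (row i).2.1 = 1 := Subtype.ext (by
    rw [SubmonoidClass.coe_pow]
    show j1Sound.den _ ^ _ = 1
    rw [← (powR_sound j1Sound hok _).2,
      (j1Sound.eqv_iff (powR_sound j1Sound hok _).1 j1Sound.ok_one).1 hpow, j1Sound.den_one])
  have hpos : ∀ j : Fin 15, 0 < (row j).2.1 := by decide +kernel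
  have hd := orderOf_dvd_of_pow_eq_one hn
  rcases (Nat.le_of_dvd (hpos i) hd).lt_or_eq with hlt | he
  · exfalso
    have ho : 0 < orderOf (rep i) := orderOf_pos _
    have := hmin (orderOf (rep i)) ⟨hlt, Nat.mod_eq_zero_of_dvd hd, by
      simp [Bool.eq_false_iff, ho.ne']⟩
    have h1 : j1Sound.den (powR j1Ops (row i).1.1 (orderOf (rep i))) = j1Sound.den j1Ops.one := by
      rw [(powR_sound j1Sound hok _).2, j1Sound.den_one]
      exact congrArg Subtype.val (pow_orderOf_eq_one (rep i))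
    rw [(j1Sound.eqv_iff (powR_sound j1Sound hok _).1 j1Sound.ok_one).2 h1] at this
    simp at this
  · exact he

/-- Trace of the matrix component. -/
noncomputable def tr (g : pairGrp) : ZMod 11 :=
  Matrix.trace ((g.1.2 : GL (Fin 7) (ZMod 11)) : Matrix (Fin 7) (Fin 7) (ZMod 11))

theorem tr_rep (i : Fin 15) : tr (rep i) = ((row i).2.2.1 : ZMod 11) := by
  have h := row_ok i
  simp only [rowOK, Bool.and_eq_true, Nat.beq_eq] at h
  rw [← h.2]
  obtain ⟨hok, -⟩ := row_mem i
  show Matrix.trace ((matDen 10 7 11 (row i).1.1.2 : GL (Fin 7) (ZMod 11)) :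
    Matrix (Fin 7) (Fin 7) (ZMod 11)) = _
  rw [matDen_coe hok.2, Matrix.trace]
  show _ = ((sumN 7 (fun k => getP 10 (row i).1.1.2 (k * 7 + k)) % 11 : ℕ) : ZMod 11)
  rw [ZMod.natCast_mod, sumN_eq, Nat.cast_sum]
  rfl

theorem tr_conj {g k : pairGrp} (h : IsConj g k) : tr g = tr k := by
  obtain ⟨c, rfl⟩ := isConj_iff.1 h
  have : ((c * g * c⁻¹ : pairGrp) : Equiv.Perm (Fin 266) × GL (Fin 7) (ZMod 11)).2 =
      c.1.2 * g.1.2 * c.1.2⁻¹ := rfl
  rw [tr, tr, this, Units.val_mul, Units.val_mul, Matrix.trace_units_conj]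

theorem row_data : ∀ i j : Fin 15, (row i).2.1 = (row j).2.1 →
    ((row i).2.2.1 : ZMod 11) = ((row j).2.2.1 : ZMod 11) → i = j := by
  decide +kernel

theorem rep_not_isConj : Pairwise fun i j => ¬ IsConj (rep i) (rep j) := by
  intro i j hij h
  refine hij (row_data i j ?_ ?_)
  · obtain ⟨c, hc⟩ := isConj_iff.1 h
    rw [← orderOf_rep, ← orderOf_rep, ← hc]
    exact (orderOf_injective (MulAut.conj c).toMonoidHom (MulEquiv.injective _) (rep i)).symm
  · rw [← tr_rep, ← tr_rep, tr_conj h]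

theorem card_cent_of_self {x xi : ℕ × ℕ} {p : ℕ} {cs : List ((ℕ × ℕ) × (ℕ × ℕ) × ℕ)}
    (hp : p.Prime)
    (h : selfCentralising j1Ops j1ChainLvl0 [j1ChainLvl1, j1ChainLvl2] x xi p cs = true)
    (g : pairGrp) (hg : (g : Equiv.Perm (Fin 266) × GL (Fin 7) (ZMod 11)) = j1Sound.den x) :
    Nat.card (Subgroup.centralizer ({g} : Set pairGrp)) = p := by
  obtain ⟨a, ha, -, hc⟩ := selfCentralising_sound j1Sound hp (l := j1ChainLvl0)
    (ls := [j1ChainLvl1, j1ChainLvl2]) chain_ok h
  obtain rfl : g = a := Subtype.ext (hg.trans ha.symm)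
  exact hc

theorem card_cent_via {x : ℕ × ℕ} {c : ℕ} (hx : j1Sound.ok x)
    (h : centCountVia j1Ops j1Chain (powR j1Ops x 5) x = c) (g : pairGrp)
    (hg : (g : Equiv.Perm (Fin 266) × GL (Fin 7) (ZMod 11)) = j1Sound.den x) :
    Nat.card (Subgroup.centralizer ({g} : Set pairGrp)) = c :=
  (card_centralizer_via j1Sound chain_ok hx (powR_sound j1Sound hx 5).1 (powR_sound j1Sound hx 5).2
    g hg).trans h

theorem card_cent_rep (i : Fin 15) :
    Nat.card (Subgroup.centralizer ({rep i} : Set pairGrp)) = (row i).2.2.2 := by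
  obtain ⟨hok, -⟩ := row_mem i
  fin_cases i
  · have h1 : rep 0 = 1 := orderOf_eq_one_iff.1 ((orderOf_rep 0).trans rfl)
    rw [show rep ⟨0, by norm_num⟩ = 1 from h1]
    rw [Subgroup.centralizer_eq_top_iff_subset.2 (by simp), Subgroup.card_top, card_pairGrp]
    rfl
  · exact (card_centralizer j1Sound chain_ok hok (rep 1) rfl).trans cent2
  · exact (card_centralizer j1Sound chain_ok hok (rep 2) rfl).trans cent3
  · exact (card_centralizer j1Sound chain_ok hok (rep 3) rfl).trans cent5a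
  · exact (card_centralizer j1Sound chain_ok hok (rep 4) rfl).trans cent5b
  · exact (card_centralizer j1Sound chain_ok hok (rep 5) rfl).trans cent6
  · exact card_cent_of_self (by norm_num) cent7 (rep 6) rfl
  · exact card_cent_via hok cent10a (rep 7) rfl
  · exact card_cent_via hok cent10b (rep 8) rfl
  · exact (card_centralizer j1Sound chain_ok hok (rep 9) rfl).trans cent11
  · exact card_cent_via hok cent15a (rep 10) rfl
  · exact card_cent_via hok cent15b (rep 11) rfl
  · exact card_cent_of_self (by norm_num) cent19a (rep 12) rfl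
  · exact card_cent_of_self (by norm_num) cent19b (rep 13) rfl
  · exact card_cent_of_self (by norm_num) cent19c (rep 14) rfl

theorem row_sum : ∑ i : Fin 15, 175560 / (row i).2.2.2 = 175560 := by decide +kernel

/-- Every element is conjugate to one of the fifteen representatives. -/
theorem exists_isConj_rep (g : pairGrp) : ∃ i, IsConj (rep i) g :=
  exists_isConj_of_class_sum 175560 card_pairGrp rep (fun i => (row i).2.2.2) card_cent_rep
    rep_not_isConj row_sum g

theorem orderOf_eq_rep (g : pairGrp) (i : Fin 15) (h : IsConj (rep i) g) :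
    orderOf g = (row i).2.1 := by
  obtain ⟨c, rfl⟩ := isConj_iff.1 h
  rw [← orderOf_rep i]
  exact orderOf_injective (MulAut.conj c).toMonoidHom (MulEquiv.injective _) (rep i)

theorem range_orderOf_pairGrp :
    Set.range (orderOf : pairGrp → ℕ) = Set.range (fun i : Fin 15 => (row i).2.1) := by
  ext n
  constructor
  · rintro ⟨g, rfl⟩
    obtain ⟨i, hi⟩ := exists_isConj_rep g
    exact ⟨i, (orderOf_eq_rep g i hi).symm⟩
  · rintro ⟨i, rfl⟩
    exact ⟨rep i, orderOf_rep i⟩

/-- The element orders of J1. -/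
theorem range_orderOf_J1 :
    Set.range (orderOf : ↥Cfsg.Spor.J1 → ℕ) = {n | n ∈ [1, 2, 3, 5, 6, 7, 10, 11, 15, 19]} := by
  obtain ⟨e⟩ := nonempty_equiv
  have he : (orderOf : ↥Cfsg.Spor.J1 → ℕ) = orderOf ∘ e.symm :=
    funext fun g => (MulEquiv.orderOf_eq e.symm g).symm
  rw [he, e.symm.surjective.range_comp, range_orderOf_pairGrp]
  have h1 : ∀ i : Fin 15, (row i).2.1 ∈ [1, 2, 3, 5, 6, 7, 10, 11, 15, 19] := by decide +kernel
  have h2 : ∀ k : Fin 10, ∃ i : Fin 15,
      (row i).2.1 = nth 0 [1, 2, 3, 5, 6, 7, 10, 11, 15, 19] k := by decide +kernel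
  ext n
  constructor
  · rintro ⟨i, rfl⟩; exact h1 i
  · intro hn
    obtain ⟨k, hk, rfl⟩ := List.getElem_of_mem hn
    obtain ⟨i, hi⟩ := h2 ⟨k, hk⟩
    exact ⟨i, hi.trans (nth_eq_getElem _ _ _ hk)⟩

/-- All involutions of J1 are conjugate and have centraliser of order 120. -/
theorem involution_pairGrp {g : pairGrp} (hg : orderOf g = 2) :
    IsConj (rep 1) g ∧ Nat.card (Subgroup.centralizer ({rep 1} : Set pairGrp)) = 120 := by
  obtain ⟨i, hi⟩ := exists_isConj_rep g
  have key : ∀ j : Fin 15, (row j).2.1 = 2 → j = 1 := by decide +kernel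
  rw [key i ((orderOf_eq_rep g i hi).symm.trans hg)] at hi
  exact ⟨hi, (card_cent_rep 1).trans rfl⟩

end Cfsg.Agent.Compute.J1
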