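import Cfsg.Agent.H50.SchurRigid

/-!
The group 2^3:7 has no 2-part in its stem extensions.
-/

set_option autoImplicit false

namespace Cfsg.Agent.Compute.J1

open Subgroup

universe u

theorem rigidAt_two_frob56 {Q : Type u} [Group Q] (a b c h : Q)
    (ha : a ^ 2 = 1) (hab : Commute a b) (hac : Commute a c) (hbc : Commute b c)
    (hb : h * a * h⁻¹ = b) (hc : h * b * h⁻¹ = c) (hd : h * c * h⁻¹ = a * b) (h7 : h ^ 7 = 1)
    (hgen : closure {a, b, c, h} = ⊤) : Cfsg.Agent.H50.RigidAt 2 Q := by
  intro P _ _ π hs hk z hzk hzc hz2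
  obtain ⟨A, rfl⟩ := hs a
  obtain ⟨H, rfl⟩ := hs h
  set B := H * A * H⁻¹ with hBd
  set C := H * B * H⁻¹ with hCd
  have eB : π B = b := by rw [hBd, map_mul, map_mul, map_inv, hb]
  have eC : π C = c := by rw [hCd, map_mul, map_mul, map_inv, eB, hc]
  clear_value C B
  have cen : ∀ {w : P}, π w = 1 → ∀ g : P, Commute g w := fun hw g =>
    (mem_center_iff.1 (hk (MonoidHom.mem_ker.2 hw)) g)
  have hk0 : π ((A * B)⁻¹ * (H * C * H⁻¹)) = 1 := by
    rw [map_mul, map_inv, map_mul, map_mul, map_mul, map_inv, eB, eC, hd, inv_mul_cancel]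
  set k := (A * B)⁻¹ * (H * C * H⁻¹) with hkd
  have eD : H * C * H⁻¹ = A * B * k := by rw [hkd, mul_inv_cancel_left]
  -- the three commutators
  have comm1 : ∀ x y : P, Commute (π x) (π y) → π (x * y * x⁻¹ * y⁻¹) = 1 := fun x y hxy => by
    rw [map_mul, map_mul, map_mul, map_inv, map_inv, hxy.eq, mul_inv_cancel_right, mul_inv_cancel]
  have cu : ∀ g : P, Commute g (A * B * A⁻¹ * B⁻¹) := cen (comm1 A B (by rw [eB]; exact hab))
  have cv : ∀ g : P, Commute g (B * C * B⁻¹ * C⁻¹) := cen (comm1 B C (by rw [eB, eC]; exact hbc))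
  have cw : ∀ g : P, Commute g (A * C * A⁻¹ * C⁻¹) := cen (comm1 A C (by rw [eC]; exact hac))
  set u := A * B * A⁻¹ * B⁻¹ with hu
  set v := B * C * B⁻¹ * C⁻¹ with hv
  set w := A * C * A⁻¹ * C⁻¹ with hw
  clear_value u v w
  have conjk : ∀ {x y : P}, (∀ g, Commute g y) → x * y * x⁻¹ = y := fun hy => by
    rw [(hy _).eq, mul_inv_cancel_right]
  have hA2 : ∀ g : P, Commute g (A * A) :=
    cen (by rw [map_mul, ← pow_two, ha])
  have hck : ∀ g : P, Commute g k := cen hk0
  have e1 : u = v := by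
    have : H * u * H⁻¹ = v := by rw [hu, hv, hCd, hBd]; group
    rwa [conjk cu] at this
  have e2 : u * u = 1 := by
    have h1 : A * A * B * (A * A)⁻¹ * B⁻¹ = 1 := by
      rw [← (hA2 B).eq, mul_inv_cancel_right, mul_inv_cancel]
    have h2 : A * A * B * (A * A)⁻¹ * B⁻¹ = A * u * A⁻¹ * u := by rw [hu]; group
    rwa [h2, conjk cu] at h1
  have e3 : B * C * B⁻¹ * C⁻¹ = C * (A * B * k) * C⁻¹ * (A * B * k)⁻¹ := by
    rw [← eD]
    conv_lhs => rw [← hv, ← conjk (x := H) cv, hv]
    rw [hCd]; group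
  have e4 : C * (A * B * k) * C⁻¹ * (A * B * k)⁻¹ = w⁻¹ * (A * v⁻¹ * A⁻¹) := by
    have h1 : C * (A * B * k) * C⁻¹ * (A * B * k)⁻¹ = C * (A * B) * C⁻¹ * (A * B)⁻¹ := by
      rw [mul_inv_rev (A * B) k, show C * (A * B * k) * C⁻¹ = C * (A * B) * (k * C⁻¹) by group,
        ← (hck C⁻¹).eq, show C * (A * B) * (C⁻¹ * k) * (k⁻¹ * (A * B)⁻¹) =
          C * (A * B) * C⁻¹ * (A * B)⁻¹ by group]
    rw [h1, hw, hv]; group
  have ew : w = 1 := by
    have h1 : v = w⁻¹ * v⁻¹ := by
      have h0 : B * C * B⁻¹ * C⁻¹ = w⁻¹ * (A * v⁻¹ * A⁻¹) := e3.trans e4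
      rw [← hv, conjk (fun g => (cv g).inv_right)] at h0
      exact h0
    have : w⁻¹ = v * v := eq_mul_inv_iff_mul_eq.1 h1 |>.symm
    rwa [← e1, e2, inv_eq_one] at this
  have eu : u = 1 := by
    have h1 : H * w * H⁻¹ = B * (A * B * k) * B⁻¹ * (A * B * k)⁻¹ := by
      rw [← eD, hw]; conv_rhs => rw [hBd]
      group
    have h2 : B * (A * B * k) * B⁻¹ * (A * B * k)⁻¹ = u⁻¹ := by
      rw [mul_inv_rev (A * B) k, show B * (A * B * k) * B⁻¹ = B * (A * B) * (k * B⁻¹) by group,
        ← (hck B⁻¹).eq, hu]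
      group
    rw [h2, ew, mul_one, mul_inv_cancel] at h1
    exact inv_eq_one.1 h1.symm
  have ev : v = 1 := e1 ▸ eu
  have cAB : Commute A B := by
    rw [Commute, SemiconjBy]
    calc A * B = u * (B * A) := by rw [hu]; group
      _ = B * A := by rw [eu, one_mul]
  have cBC : Commute B C := by
    rw [Commute, SemiconjBy]
    calc B * C = v * (C * B) := by rw [hv]; group
      _ = C * B := by rw [ev, one_mul]
  have cAC : Commute A C := by
    rw [Commute, SemiconjBy]
    calc A * C = w * (C * A) := by rw [hw]; group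
      _ = C * A := by rw [ew, one_mul]
  -- the abelian normal subgroup
  let S : Set P := {A, B, C} ∪ (π.ker : Set P)
  let E : Subgroup P := closure S
  have hSc : ∀ x ∈ S, ∀ y ∈ S, Commute x y := by
    rintro x hx y hy
    rcases hy with hy | hy
    · rcases hx with hx | hx
      · simp only [Set.mem_insert_iff, Set.mem_singleton_iff] at hx hy
        rcases hx with rfl | rfl | rfl <;> rcases hy with rfl | rfl | rfl <;>
          first
          | exact Commute.refl _ | exact cAB | exact cAB.symm | exact cBC | exact cBC.symm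
          | exact cAC | exact cAC.symm
      · exact (cen (MonoidHom.mem_ker.1 hx) y).symm
    · exact cen (MonoidHom.mem_ker.1 hy) x
  have hEc : ∀ x ∈ E, ∀ y ∈ E, Commute x y := by
    intro x hx y hy
    have h1 : ∀ s ∈ S, Commute s y := fun s hs => by
      refine closure_induction (fun t ht => hSc s hs t ht) (Commute.one_right s)
        (fun a b _ _ h1 h2 => h1.mul_right h2) (fun a _ h1 => h1.inv_right) hy
    exact closure_induction h1 (Commute.one_left y) (fun a b _ _ p q => p.mul_left q)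
      (fun a _ p => p.inv_left) hx
  have hconj : ∀ e ∈ E, H * e * H⁻¹ ∈ E := by
    intro e he
    refine closure_induction (p := fun e _ => H * e * H⁻¹ ∈ E) ?_ (by simpa using E.one_mem) ?_ ?_ he
    · rintro s (hs | hs)
      · simp only [Set.mem_insert_iff, Set.mem_singleton_iff] at hs
        rcases hs with rfl | rfl | rfl
        · exact subset_closure (Or.inl (by simp [hBd]))
        · exact subset_closure (Or.inl (by simp [hCd]))
        · rw [eD]
          exact mul_mem (mul_mem (subset_closure (Or.inl (by simp)))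
            (subset_closure (Or.inl (by simp)))) (subset_closure (Or.inr (MonoidHom.mem_ker.2 hk0)))
      · rw [conjk (cen (MonoidHom.mem_ker.1 hs))]
        exact subset_closure (Or.inr hs)
    · intro p q _ _ hp hq
      rw [show H * (p * q) * H⁻¹ = H * p * H⁻¹ * (H * q * H⁻¹) by group]
      exact mul_mem hp hq
    · intro p _ hp
      rw [show H * p⁻¹ * H⁻¹ = (H * p * H⁻¹)⁻¹ by group]
      exact inv_mem hp
  let δ : E →* P :=
    { toFun := fun e => H * e.1 * H⁻¹ * e.1⁻¹
      map_one' := by simp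
      map_mul' := fun p q => by
        have hm := hEc _ p.2 _ (mul_mem (hconj q q.2) (inv_mem q.2))
        show H * (p.1 * q.1) * H⁻¹ * (p.1 * q.1)⁻¹ =
          H * p.1 * H⁻¹ * p.1⁻¹ * (H * q.1 * H⁻¹ * q.1⁻¹)
        calc _ = H * p.1 * H⁻¹ * ((H * q.1 * H⁻¹ * q.1⁻¹) * p.1⁻¹) := by group
          _ = H * p.1 * H⁻¹ * (p.1⁻¹ * (H * q.1 * H⁻¹ * q.1⁻¹)) := by rw [hm.inv_left.eq]
          _ = _ := by group }
  have hDE : δ.range ≤ E := by
    rintro _ ⟨e, rfl⟩
    exact mul_mem (hconj e e.2) (inv_mem e.2)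
  have hgenP : closure (insert H S) = ⊤ := by
    rw [eq_top_iff]
    intro x _
    have hsub : closure {π A, b, c, π H} ≤ (closure (insert H S)).map π := by
      rw [closure_le]
      rintro _ (rfl | rfl | rfl | rfl)
      · exact mem_map_of_mem π (subset_closure (Or.inr (Or.inl (by simp))))
      · exact eB ▸ mem_map_of_mem π (subset_closure (Or.inr (Or.inl (by simp))))
      · exact eC ▸ mem_map_of_mem π (subset_closure (Or.inr (Or.inl (by simp))))
      · exact mem_map_of_mem π (subset_closure (Or.inl rfl))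
    obtain ⟨y, hy, hyx⟩ := hsub (by rw [hgen]; exact mem_top (π x))
    have : y⁻¹ * x ∈ closure (insert H S) :=
      subset_closure (Or.inr (Or.inr (MonoidHom.mem_ker.2 (by simp [hyx]))))
    simpa using mul_mem hy this
  have hDn : δ.range.Normal := by
    rw [← normalizer_eq_top_iff, eq_top_iff, ← hgenP, closure_le]
    rintro g (rfl | hg)
    · rw [SetLike.mem_coe, mem_normalizer_iff]
      have h1 : ∀ y ∈ δ.range, g * y * g⁻¹ ∈ δ.range := by
        rintro _ ⟨e, rfl⟩
        refine ⟨⟨g * e.1 * g⁻¹, hconj e e.2⟩, ?_⟩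
        show g * (g * e.1 * g⁻¹) * g⁻¹ * (g * e.1 * g⁻¹)⁻¹ = g * (g * e.1 * g⁻¹ * e.1⁻¹) * g⁻¹
        group
      intro y
      refine ⟨h1 y, fun hy => ?_⟩
      have h2 : ∀ n : ℕ, ∀ x ∈ δ.range, g ^ n * x * (g ^ n)⁻¹ ∈ δ.range := by
        intro n
        induction n with
        | zero => intro x hx; simpa using hx
        | succ m ih =>
          intro x hx
          have := h1 _ (ih x hx)
          rwa [show g * (g ^ m * x * (g ^ m)⁻¹) * g⁻¹ = g ^ (m + 1) * x * (g ^ (m + 1))⁻¹ by
            rw [pow_succ']; group] at this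
      have hpos := orderOf_pos g
      have h3 := h2 (orderOf g - 1) _ hy
      have hg1 : g ^ (orderOf g - 1) * g = 1 := by
        rw [← pow_succ, show orderOf g - 1 + 1 = orderOf g by omega, pow_orderOf_eq_one]
      rwa [eq_inv_of_mul_eq_one_left hg1, show g⁻¹ * (g * y * g⁻¹) * g⁻¹⁻¹ = y by group] at h3
    · rw [SetLike.mem_coe, mem_normalizer_iff]
      intro y
      have hgE : g ∈ E := subset_closure hg
      constructor
      · intro hy
        rwa [(hEc g hgE y (hDE hy)).eq, mul_inv_cancel_right]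
      · intro hy
        have h' := hEc g hgE _ (hDE hy)
        have : g * y * g⁻¹ = y := by
          have h'' := h'.eq
          rw [mul_assoc g y g⁻¹] at h''
          have h3 : g * y * g⁻¹ * g = g * (g * y * g⁻¹) := by rw [← h'.eq]
          calc g * y * g⁻¹ = g⁻¹ * (g * (g * y * g⁻¹)) := by group
            _ = g⁻¹ * (g * y * g⁻¹ * g) := by rw [h3]
            _ = y := by group
        rwa [this] at hy
  have hcomm : commutator P ≤ δ.range := by
    have hE2 : ∀ s ∈ S, (QuotientGroup.mk s : P ⧸ δ.range) * QuotientGroup.mk H =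
        QuotientGroup.mk H * QuotientGroup.mk s := by
      intro s hs
      rw [← QuotientGroup.mk_mul, ← QuotientGroup.mk_mul, QuotientGroup.eq]
      have hm : (δ ⟨s, subset_closure hs⟩) ∈ δ.range := ⟨_, rfl⟩
      have := hDn.conj_mem _ hm (s * H)⁻¹
      convert this using 1
      show _ = (s * H)⁻¹ * (H * s * H⁻¹ * s⁻¹) * ((s * H)⁻¹)⁻¹
      group
    have hq : ∀ x y : P, (QuotientGroup.mk x : P ⧸ δ.range) * QuotientGroup.mk y =
        QuotientGroup.mk y * QuotientGroup.mk x := by
      have base : ∀ s ∈ insert H S, ∀ t ∈ insert H S,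
          Commute (QuotientGroup.mk s : P ⧸ δ.range) (QuotientGroup.mk t) := by
        rintro s (rfl | hs) t (rfl | ht)
        · exact Commute.refl _
        · exact (hE2 t ht).symm
        · exact hE2 s hs
        · exact (hSc s hs t ht).map (QuotientGroup.mk' δ.range)
      intro x y
      have h1 : ∀ s ∈ insert H S,
          Commute (QuotientGroup.mk s : P ⧸ δ.range) (QuotientGroup.mk y) := fun s hs => by
        refine closure_induction (p := fun y _ => Commute (QuotientGroup.mk s : P ⧸ δ.range)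
          (QuotientGroup.mk y)) (fun t ht => base s hs t ht) (by simp)
          (fun p q _ _ i j => by rw [QuotientGroup.mk_mul]; exact i.mul_right j)
          (fun p _ i => by rw [QuotientGroup.mk_inv]; exact i.inv_right)
          (by rw [hgenP]; exact mem_top y)
      exact closure_induction (p := fun x _ => Commute (QuotientGroup.mk x : P ⧸ δ.range)
        (QuotientGroup.mk y)) h1 (by simp)
        (fun p q _ _ i j => by rw [QuotientGroup.mk_mul]; exact i.mul_left j)
        (fun p _ i => by rw [QuotientGroup.mk_inv]; exact i.inv_left)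
        (by rw [hgenP]; exact mem_top x)
    rw [_root_.commutator_def, commutator_le]
    intro x _ y _
    rw [← QuotientGroup.eq_one_iff, commutatorElement_def]
    simp only [QuotientGroup.mk_mul, QuotientGroup.mk_inv]
    rw [hq x y, mul_inv_cancel_right, mul_inv_cancel]
  obtain ⟨e, he⟩ := hcomm hzc
  have hze : H * e.1 * H⁻¹ = z * e.1 := by
    rw [← he]
    show _ = H * e.1 * H⁻¹ * e.1⁻¹ * e.1
    group
  have hzc' : ∀ g : P, Commute g z := cen (MonoidHom.mem_ker.1 hzk)
  have hiter : ∀ n : ℕ, H ^ n * e.1 * (H ^ n)⁻¹ = z ^ n * e.1 := by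
    intro n
    induction n with
    | zero => simp
    | succ m ih =>
      calc H ^ (m + 1) * e.1 * (H ^ (m + 1))⁻¹ = H * (H ^ m * e.1 * (H ^ m)⁻¹) * H⁻¹ := by
            rw [pow_succ']; group
        _ = H * z ^ m * (e.1 * H⁻¹) := by rw [ih]; group
        _ = z ^ m * H * (e.1 * H⁻¹) := by rw [((hzc' H).pow_right m).eq]
        _ = z ^ (m + 1) * e.1 := by
          rw [show z ^ m * H * (e.1 * H⁻¹) = z ^ m * (H * e.1 * H⁻¹) by group, hze, pow_succ]
          group
  have h7z : z ^ 7 = 1 := by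
    have h := hiter 7
    have hcn : Commute e.1 (H ^ 7) := cen (by rw [map_pow, h7]) e.1
    rw [← hcn.eq, mul_inv_cancel_right] at h
    calc z ^ 7 = z ^ 7 * e.1 * e.1⁻¹ := by group
      _ = 1 := by rw [← h, mul_inv_cancel]
  calc z = z ^ 7 := by
        rw [pow_succ, show z ^ 6 = (z ^ 2) ^ 3 by rw [← pow_mul], hz2, one_pow, one_mul]
    _ = 1 := h7z

end Cfsg.Agent.Compute.J1
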