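import Cfsg.Agent.Compute.J1.Classes
import Cfsg.Agent.Compute.J1.FrobData
import Cfsg.Agent.Compute.J1.Rigid
import Cfsg.Agent.H74.SchurBasic

/-!
The Schur multiplier of J1 is trivial.
-/

set_option autoImplicit false
set_option maxRecDepth 6000

namespace Cfsg.Agent.Compute.J1

theorem frob_ok : checkChain j1Ops frobChain = true ∧
    genBy j1Ops frobChain (frobGens.map Prod.fst) frobWords = true := by
  constructor <;> decide +kernel

/-- Generator `i` of 2^3:7. -/
noncomputable def frobElt (i : ℕ) : ℕ × ℕ :=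
  (nth (j1Ops.one, j1Ops.one) frobGens i).1

theorem frobGens_ok : lall frobGens (fun g => j1Ops.okInv g.1 g.2 && sift j1Ops j1Chain g.1) = true := by
  decide +kernel

theorem frobRels_ok :
    (j1Ops.eqv (powR j1Ops (frobElt 0) 2) j1Ops.one &&
    j1Ops.eqv (j1Ops.mul (frobElt 0) (frobElt 1)) (j1Ops.mul (frobElt 1) (frobElt 0)) &&
    j1Ops.eqv (j1Ops.mul (frobElt 0) (frobElt 2)) (j1Ops.mul (frobElt 2) (frobElt 0)) &&
    j1Ops.eqv (j1Ops.mul (frobElt 1) (frobElt 2)) (j1Ops.mul (frobElt 2) (frobElt 1)) &&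
    j1Ops.eqv (j1Ops.mul (frobElt 3) (frobElt 0)) (j1Ops.mul (frobElt 1) (frobElt 3)) &&
    j1Ops.eqv (j1Ops.mul (frobElt 3) (frobElt 1)) (j1Ops.mul (frobElt 2) (frobElt 3)) &&
    j1Ops.eqv (j1Ops.mul (frobElt 3) (frobElt 2))
      (j1Ops.mul (j1Ops.mul (frobElt 0) (frobElt 1)) (frobElt 3)) &&
    j1Ops.eqv (powR j1Ops (frobElt 3) 7) j1Ops.one) = true := by
  decide +kernel

theorem frobElt_spec (i : Fin 4) :
    j1Sound.ok (frobElt i) ∧ j1Sound.den (frobElt i) ∈ pairGrp := by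
  have hl : frobGens.length = 4 := by decide +kernel
  have h := (lall_iff _ _).1 frobGens_ok _
    (nth_mem (j1Ops.one, j1Ops.one) frobGens i (hl.symm ▸ i.2))
  simp only [Bool.and_eq_true] at h
  have ok := (j1Sound.okInv_sound h.1).1
  exact ⟨ok, ((checkChain_sound j1Sound chain_ok).sift_iff _ ok).1 h.2⟩

/-- Generator `i` in the group. -/
noncomputable def frobG (i : Fin 4) : pairGrp := ⟨_, (frobElt_spec i).2⟩

/-- The subgroup 2^3:7. -/
noncomputable def frobSub : Subgroup pairGrp :=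
  Subgroup.closure {frobG 0, frobG 1, frobG 2, frobG 3}

theorem card_frobSub : Nat.card frobSub = 56 := by
  have hmap : frobSub.map pairGrp.subtype = j1Sound.grp frobChain := by
    rw [genBy_sound j1Sound frob_ok.1 frob_ok.2, frobSub, MonoidHom.map_closure]
    · congr 1
      have hl : frobGens.map Prod.fst = [frobElt 0, frobElt 1, frobElt 2, frobElt 3] := rfl
      rw [hl]
      ext z
      simp only [Set.image_insert_eq, Set.image_singleton, Set.mem_insert_iff,
        Set.mem_singleton_iff, Set.mem_image, List.mem_cons, List.not_mem_nil, or_false]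
      constructor
      · rintro (rfl | rfl | rfl | rfl)
        exacts [⟨_, Or.inl rfl, rfl⟩, ⟨_, Or.inr (Or.inl rfl), rfl⟩,
          ⟨_, Or.inr (Or.inr (Or.inl rfl)), rfl⟩, ⟨_, Or.inr (Or.inr (Or.inr rfl)), rfl⟩]
      · rintro ⟨a, (rfl | rfl | rfl | rfl), rfl⟩
        exacts [Or.inl rfl, Or.inr (Or.inl rfl), Or.inr (Or.inr (Or.inl rfl)),
          Or.inr (Or.inr (Or.inr rfl))]
    · intro a ha
      obtain ⟨g, hg, rfl⟩ := List.mem_map.1 ha
      have := (lall_iff _ _).1 frobGens_ok g hg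
      simp only [Bool.and_eq_true] at this
      exact (j1Sound.okInv_sound this.1).1
  rw [Nat.card_congr (Subgroup.equivMapOfInjective frobSub _ pairGrp.subtype_injective).toEquiv,
    hmap, (checkChain_sound j1Sound frob_ok.1).card]
  decide +kernel

theorem coprime_index_of_card {H : Subgroup pairGrp} {p c : ℕ} (hc : Nat.card H = c)
    (hp : p.Coprime (175560 / c)) : p.Coprime H.index := by
  have h := H.index_mul_card
  rw [hc, card_pairGrp] at h
  have hpos : 0 < c := hc ▸ Nat.card_pos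
  rwa [Nat.div_eq_of_eq_mul_left hpos h.symm] at hp

theorem rigidAt_frobSub : Cfsg.Agent.H50.RigidAt 2 ↥frobSub := by
  have hm : ∀ i : Fin 4, frobG i ∈ frobSub := fun i =>
    Subgroup.subset_closure (by fin_cases i <;> simp)
  have ok := fun i => (frobElt_spec i).1
  have o0 : j1Sound.ok (frobElt 0) := ok 0
  have o1 : j1Sound.ok (frobElt 1) := ok 1
  have o2 : j1Sound.ok (frobElt 2) := ok 2
  have o3 : j1Sound.ok (frobElt 3) := ok 3
  have h := frobRels_ok
  simp only [Bool.and_eq_true] at h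
  obtain ⟨⟨⟨⟨⟨⟨⟨r1, r2⟩, r3⟩, r4⟩, r5⟩, r6⟩, r7⟩, r8⟩ := h
  have cm : ∀ i j : Fin 4,
      j1Ops.eqv (j1Ops.mul (frobElt i) (frobElt j)) (j1Ops.mul (frobElt j) (frobElt i)) = true →
      Commute (⟨_, hm i⟩ : frobSub) ⟨_, hm j⟩ := by
    intro i j e
    refine Subtype.ext (Subtype.ext ?_)
    show j1Sound.den (frobElt i) * j1Sound.den (frobElt j) =
      j1Sound.den (frobElt j) * j1Sound.den (frobElt i)
    rw [← j1Sound.den_mul (ok i) (ok j), ← j1Sound.den_mul (ok j) (ok i)]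
    exact (j1Sound.eqv_iff (j1Sound.ok_mul (ok i) (ok j)) (j1Sound.ok_mul (ok j) (ok i))).1 e
  have cj : ∀ i j : Fin 4, j1Ops.eqv (j1Ops.mul (frobElt 3) (frobElt i))
      (j1Ops.mul (frobElt j) (frobElt 3)) = true →
      (⟨_, hm 3⟩ : frobSub) * ⟨_, hm i⟩ * (⟨_, hm 3⟩ : frobSub)⁻¹ = ⟨_, hm j⟩ := by
    intro i j e
    rw [mul_inv_eq_iff_eq_mul]
    refine Subtype.ext (Subtype.ext ?_)
    show j1Sound.den (frobElt 3) * j1Sound.den (frobElt i) =
      j1Sound.den (frobElt j) * j1Sound.den (frobElt 3)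
    rw [← j1Sound.den_mul o3 (ok i), ← j1Sound.den_mul (ok j) o3]
    exact (j1Sound.eqv_iff (j1Sound.ok_mul o3 (ok i)) (j1Sound.ok_mul (ok j) o3)).1 e
  refine rigidAt_two_frob56 (⟨_, hm 0⟩ : frobSub) ⟨_, hm 1⟩ ⟨_, hm 2⟩ ⟨_, hm 3⟩ ?_
    (cm 0 1 r2) (cm 0 2 r3) (cm 1 2 r4) (cj 0 1 r5) (cj 1 2 r6) ?_ ?_ ?_
  · refine Subtype.ext (Subtype.ext ?_)
    show j1Sound.den (frobElt 0) ^ 2 = 1
    rw [← (powR_sound j1Sound o0 2).2, ← j1Sound.den_one]
    exact (j1Sound.eqv_iff (powR_sound j1Sound o0 2).1 j1Sound.ok_one).1 r1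
  · rw [mul_inv_eq_iff_eq_mul]
    refine Subtype.ext (Subtype.ext ?_)
    show j1Sound.den (frobElt 3) * j1Sound.den (frobElt 2) =
      j1Sound.den (frobElt 0) * j1Sound.den (frobElt 1) * j1Sound.den (frobElt 3)
    rw [← j1Sound.den_mul o3 o2, ← j1Sound.den_mul o0 o1,
      ← j1Sound.den_mul (j1Sound.ok_mul o0 o1) o3]
    exact (j1Sound.eqv_iff (j1Sound.ok_mul o3 o2)
      (j1Sound.ok_mul (j1Sound.ok_mul o0 o1) o3)).1 r7
  · refine Subtype.ext (Subtype.ext ?_)
    show j1Sound.den (frobElt 3) ^ 7 = 1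
    rw [← (powR_sound j1Sound o3 7).2, ← j1Sound.den_one]
    exact (j1Sound.eqv_iff (powR_sound j1Sound o3 7).1 j1Sound.ok_one).1 r8
  · apply Subgroup.map_injective frobSub.subtype_injective
    rw [MonoidHom.map_closure, ← MonoidHom.range_eq_map, Subgroup.range_subtype]
    simp only [Set.image_insert_eq, Set.image_singleton, Subgroup.coe_subtype]
    rfl

theorem schur_pairGrp : Cfsg.HasCyclicSchurMultiplier ↥pairGrp 1 := by
  refine Cfsg.Agent.H50.hasTrivialMultiplier_of_forall_prime fun Γ _ _ σ hσ p hp z hz hzp => ?_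
  have : Fact p.Prime := ⟨hp⟩
  rcases eq_or_ne p 2 with rfl | h2
  · exact Cfsg.Agent.H50.eq_one_of_rigidAt hσ frobSub
      (coprime_index_of_card card_frobSub (by norm_num)) rigidAt_frobSub z hz hzp
  by_cases hd : p ∣ 175560
  · have hmem : ∀ q ∈ [3, 5, 7, 11, 19], q ≠ 2 ∧ ∃ i : Fin 15, (row i).2.1 = q ∧
        Nat.Coprime q (175560 / q) := by decide +kernel
    have hq : p ∈ [3, 5, 7, 11, 19] := by
      have h1 : p ∣ 2 ^ 3 * 3 * 5 * 7 * 11 * 19 := by norm_num; exact hd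
      have step : ∀ {a q : ℕ}, q.Prime → p ∣ a * q → p ∣ a ∨ p = q := fun hq h =>
        (hp.dvd_mul.1 h).imp_right fun h => (Nat.prime_dvd_prime_iff_eq hp hq).1 h
      rcases step (by norm_num) h1 with h1 | rfl
      swap; · simp
      rcases step (by norm_num) h1 with h1 | rfl
      swap; · simp
      rcases step (by norm_num) h1 with h1 | rfl
      swap; · simp
      rcases step (by norm_num) h1 with h1 | rfl
      swap; · simp
      rcases step (by norm_num) h1 with h1 | rfl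
      · exact absurd ((Nat.prime_dvd_prime_iff_eq hp Nat.prime_two).1 (hp.dvd_of_dvd_pow h1)) h2
      · simp
    obtain ⟨-, i, hi, hcop⟩ := hmem p hq
    have hc : Nat.card (Subgroup.zpowers (rep i)) = p := by
      rw [Nat.card_zpowers, orderOf_rep, hi]
    exact Cfsg.Agent.H50.eq_one_of_rigidAt hσ (Subgroup.zpowers (rep i))
      (coprime_index_of_card hc hcop) (Cfsg.Agent.H50.rigidAt_of_isCyclic p _) z hz hzp
  · exact Cfsg.Agent.H50.eq_one_of_rigidAt hσ ⊥
      (coprime_index_of_card Subgroup.card_bot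
        (by simpa using (hp.coprime_iff_not_dvd).2 hd))
      (Cfsg.Agent.H50.rigidAt_of_isCyclic p _) z hz hzp

theorem schur_J1 : Cfsg.HasCyclicSchurMultiplier ↥Cfsg.Spor.J1 1 := by
  obtain ⟨e⟩ := nonempty_equiv
  refine Cfsg.Agent.H50.hasTrivialMultiplier_of_forall_prime fun Γ _ _ σ hσ p hp z hz hzp => ?_
  have : Finite ↥Cfsg.Spor.J1 := Nat.finite_of_card_ne_zero (by rw [card_J1]; norm_num)
  let τ : Γ →* pairGrp := e.symm.toMonoidHom.comp σ
  have hker : τ.ker = σ.ker := by ext x; simp [τ]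
  have hτ : Cfsg.IsStemExtension τ :=
    ⟨e.symm.surjective.comp hσ.1, hker ▸ hσ.2.1, hker ▸ hσ.2.2⟩
  have hbot := (Cfsg.Agent.H50.hasTrivialMultiplier_iff.1 schur_pairGrp) Γ τ hτ
  rw [hker] at hbot
  rwa [hbot, Subgroup.mem_bot] at hz

end Cfsg.Agent.Compute.J1
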