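import Cfsg.Agent.Compute.J1.OutData
import Cfsg.Agent.Compute.J1.Check
import Cfsg.Agent.Compute.Classes

/-!
Kernel checks for the automorphisms of J1.
-/

set_option autoImplicit false
set_option Elab.async false

namespace Cfsg.Agent.Compute.J1

/-- The element of order 11. -/
noncomputable def outX : ℕ × ℕ := c11t7.1

/-- Powers of the element of order 11 with inverses. -/
noncomputable def outPow (j : ℕ) : (ℕ × ℕ) × ℕ × ℕ :=
  (powR j1Ops outX j, powR j1Ops c11t7.2 j)

/-- Base images of `x^j a x^-j` as one number. -/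
noncomputable def invCode (a : ℕ × ℕ) (j : ℕ) : ℕ :=
  (fun w => Nat.mod (Nat.add (Nat.mul (Nat.add
    (Nat.mul (imgW j1Ops w j1ChainLvl0.base) 266) (imgW j1Ops w j1ChainLvl1.base)) 266)
      (imgW j1Ops w j1ChainLvl2.base)) invHash)
    [(outPow j).1, a, (outPow j).2]

/-- Value of a word in `a` and `x` on a base point. -/
noncomputable def relImg (a : ℕ × ℕ) (w : List ℕ) (b : ℕ) : ℕ :=
  imgW j1Ops (w.map (nth j1Ops.one [a, outX])) b

theorem reps_ok : lall invReps (fun r => j1Ops.okInv r.1 r.1 && sift j1Ops j1Chain r.1 &&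
    !(j1Ops.eqv r.1 j1Ops.one)) = true := by
  decide +kernel

theorem codes_ok :
    distinct (invReps.flatMap (fun r => (List.range 11).map (invCode r.1))) 0 = true := by
  decide +kernel

theorem rels_ok : lall invReps.tail (fun r =>
    lall (basesOf j1Chain) (fun b => Nat.beq (relImg (nth (j1Ops.one, []) invReps 0).1 r.2 b) b) &&
      !(lall (basesOf j1Chain) (fun b => Nat.beq (relImg r.1 r.2 b) b))) = true := by
  decide +kernel

theorem outGen_ok : genBy j1Ops j1Chain [(nth (j1Ops.one, []) invReps 0).1, outX] outWords = true := by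
  decide +kernel

end Cfsg.Agent.Compute.J1
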