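import Cfsg.Prelude.Def_KGroupFacts
import Cfsg.Agent.Compute.J1.Classes
import Cfsg.Agent.Compute.J1.OutCheck

/-!
Every automorphism of J1 is inner.
-/

set_option autoImplicit false
set_option maxRecDepth 6000

namespace Cfsg.Agent.Compute.J1

theorem invReps_length : invReps.length = 133 := by decide +kernel

attribute [local irreducible] invReps

theorem rep_facts (i : Fin 133) :
    j1Sound.ok (nth (j1Ops.one, []) invReps i).1 ∧
      j1Sound.den (nth (j1Ops.one, []) invReps i).1 ∈ pairGrp ∧
      j1Sound.den (nth (j1Ops.one, []) invReps i).1 ≠ 1 ∧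
      j1Sound.den (nth (j1Ops.one, []) invReps i).1 * j1Sound.den (nth (j1Ops.one, []) invReps i).1
        = 1 := by
  have hm := nth_mem (j1Ops.one, ([] : List ℕ)) invReps i (invReps_length.symm ▸ i.2)
  have h := (lall_iff _ _).1 reps_ok _ hm
  simp only [Bool.and_eq_true, Bool.not_eq_true'] at h
  obtain ⟨⟨hi, hs⟩, hne⟩ := h
  obtain ⟨ok, -, hinv⟩ := j1Sound.okInv_sound hi
  refine ⟨ok, ((checkChain_sound j1Sound chain_ok).sift_iff _ ok).1 hs, fun e => ?_, ?_⟩
  · rw [(j1Sound.eqv_iff ok j1Sound.ok_one).2 (by rw [j1Sound.den_one]; exact e)] at hne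
    simp at hne
  · nth_rewrite 1 [hinv]
    exact inv_mul_cancel _

/-- The involution representatives. -/
noncomputable def invRep (i : Fin 133) : pairGrp := ⟨_, (rep_facts i).2.1⟩

theorem orderOf_invRep (i : Fin 133) : orderOf (invRep i) = 2 :=
  orderOf_eq_prime (Subtype.ext (by rw [pow_two]; exact (rep_facts i).2.2.2))
    fun e => (rep_facts i).2.2.1 (congrArg Subtype.val e)

theorem outX_ok : j1Sound.ok outX ∧ j1Sound.ok c11t7.2 ∧
    j1Sound.den c11t7.2 = (j1Sound.den outX)⁻¹ := by
  have h := row_ok 9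
  simp only [rowOK, Bool.and_eq_true] at h
  exact j1Sound.okInv_sound h.1.1.1.1

/-- The element of order 11 in the group. -/
noncomputable def xE : pairGrp := rep 9

theorem orderOf_xE : orderOf xE = 11 := (orderOf_rep 9).trans rfl

theorem xE_val : (xE : Equiv.Perm (Fin 266) × GL (Fin 7) (ZMod 11)) = j1Sound.den outX := rfl

theorem code_eq {i : Fin 133} {j : ℕ} :
    invCode (nth (j1Ops.one, []) invReps i).1 j =
      (((j1Sound.act ((xE ^ j * invRep i * (xE ^ j)⁻¹ : pairGrp) : _) j1ChainLvl0.base * 266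
        + j1Sound.act ((xE ^ j * invRep i * (xE ^ j)⁻¹ : pairGrp) : _) j1ChainLvl1.base) * 266
        + j1Sound.act ((xE ^ j * invRep i * (xE ^ j)⁻¹ : pairGrp) : _) j1ChainLvl2.base)
          % invHash) := by
  have hp := powR_sound j1Sound outX_ok.1 j
  have hq := powR_sound j1Sound outX_ok.2.1 j
  have hw : ∀ a ∈ [(outPow j).1, (nth (j1Ops.one, []) invReps i).1, (outPow j).2],
      j1Sound.ok a := by
    intro a ha
    simp only [List.mem_cons, List.not_mem_nil, or_false] at ha
    rcases ha with rfl | rfl | rfl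
    exacts [hp.1, (rep_facts i).1, hq.1]
  have hden : wden j1Sound [(outPow j).1, (nth (j1Ops.one, []) invReps i).1, (outPow j).2] =
      ((xE ^ j * invRep i * (xE ^ j)⁻¹ : pairGrp) : _) := by
    simp only [wden, outPow, List.map_cons, List.map_nil, List.prod_cons, List.prod_nil, mul_one,
      hp.2, hq.2, outX_ok.2.2, Subgroup.coe_mul, Subgroup.coe_inv, SubmonoidClass.coe_pow, xE_val,
      inv_pow, invRep, mul_assoc]
  show Nat.mod (Nat.add (Nat.mul (Nat.add (Nat.mul (imgW j1Ops _ j1ChainLvl0.base) 266)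
    (imgW j1Ops _ j1ChainLvl1.base)) 266) (imgW j1Ops _ j1ChainLvl2.base)) invHash = _
  rw [imgW_eq j1Sound _ hw, imgW_eq j1Sound _ hw, imgW_eq j1Sound _ hw, hden]
  rfl

theorem involution_cover (g : pairGrp) (hg : orderOf g = 2) :
    ∃ (i : Fin 133) (j : ℕ), g = xE ^ j * invRep i * (xE ^ j)⁻¹ := by
  classical
  have := Fintype.ofFinite pairGrp
  let f : Fin 133 × Fin 11 → pairGrp :=
    fun a => xE ^ (a.2 : ℕ) * invRep a.1 * (xE ^ (a.2 : ℕ))⁻¹
  have hinj : Function.Injective f := by
    intro a b h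
    have hc : invCode (nth (j1Ops.one, []) invReps a.1).1 a.2 =
        invCode (nth (j1Ops.one, []) invReps b.1).1 b.2 := by
      rw [code_eq, code_eq]
      exact congrArg (fun z : pairGrp =>
        ((j1Sound.act (z : _) j1ChainLvl0.base * 266 + j1Sound.act (z : _) j1ChainLvl1.base) * 266
          + j1Sound.act (z : _) j1ChainLvl2.base) % invHash) h
    obtain ⟨hnd, hdis⟩ := List.nodup_flatMap.1 (distinct_sound _ _ codes_ok).1
    have hlen : ∀ k : Fin 133, (k : ℕ) < invReps.length := fun k => invReps_length.symm ▸ k.2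
    have e1 : ∀ k : Fin 133, invReps[(k : ℕ)]'(hlen k) = nth (j1Ops.one, []) invReps k :=
      fun k => (nth_eq_getElem _ _ _ (hlen k)).symm
    have hab : a.1 = b.1 := by
      by_contra hne
      rcases lt_or_gt_of_ne hne with hlt | hlt
      · have hd := (List.pairwise_iff_getElem.1 hdis) a.1 b.1 (hlen _) (hlen _) hlt
        rw [e1, e1] at hd
        exact hd (List.mem_map_of_mem (List.mem_range.2 a.2.2))
          (hc ▸ List.mem_map_of_mem (List.mem_range.2 b.2.2))
      · have hd := (List.pairwise_iff_getElem.1 hdis) b.1 a.1 (hlen _) (hlen _) hlt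
        rw [e1, e1] at hd
        exact hd (List.mem_map_of_mem (List.mem_range.2 b.2.2))
          (hc ▸ List.mem_map_of_mem (List.mem_range.2 a.2.2))
    refine Prod.ext hab (Fin.ext ?_)
    rw [← hab] at hc
    exact List.inj_on_of_nodup_map (hnd _ (nth_mem _ _ _ (hlen a.1)))
      (List.mem_range.2 a.2.2) (List.mem_range.2 b.2.2) hc
  have hsub : Finset.univ.image f ⊆ (conjugatesOf (rep 1)).toFinset := by
    intro z hz
    obtain ⟨a, -, rfl⟩ := Finset.mem_image.1 hz
    rw [Set.mem_toFinset]
    refine (involution_pairGrp ?_).1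
    exact (orderOf_injective (MulAut.conj (xE ^ (a.2 : ℕ))).toMonoidHom (MulEquiv.injective _)
      (invRep a.1)).trans (orderOf_invRep a.1)
  have hcard : (conjugatesOf (rep 1)).toFinset.card ≤ (Finset.univ.image f).card := by
    rw [Finset.card_image_of_injective _ hinj, Finset.card_univ, Fintype.card_prod,
      Fintype.card_fin, Fintype.card_fin]
    have h1 := MulAction.index_stabilizer (ConjAct pairGrp) (rep 1)
    have horb : MulAction.orbit (ConjAct pairGrp) (rep 1) = conjugatesOf (rep 1) := by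
      ext y; rw [ConjAct.mem_orbit_conjAct]; exact ⟨fun h => h.symm, fun h => h.symm⟩
    rw [horb, ← Nat.card_coe_set_eq] at h1
    rw [← Nat.card_eq_card_toFinset, ← h1]
    have h2 := (MulAction.stabilizer (ConjAct pairGrp) (rep 1)).index_mul_card
    have h3 : Nat.card (MulAction.stabilizer (ConjAct pairGrp) (rep 1)) = 120 := by
      rw [← ((card_cent_rep 1).trans rfl : Nat.card (Subgroup.centralizer ({rep 1} : Set pairGrp))
        = 120), Subgroup.centralizer_eq_comap_stabilizer]
      exact Nat.card_congr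
        ((ConjAct.toConjAct (G := pairGrp)).toEquiv.subtypeEquiv fun _ => Iff.rfl).symm
    have h4 : Nat.card (ConjAct pairGrp) = 175560 :=
      (Nat.card_congr (ConjAct.ofConjAct (G := pairGrp)).toEquiv).trans card_pairGrp
    rw [h3, h4] at h2
    omega
  have hg' : g ∈ (conjugatesOf (rep 1)).toFinset := Set.mem_toFinset.2 (involution_pairGrp hg).1
  rw [← Finset.eq_of_subset_of_card_le hsub hcard] at hg'
  obtain ⟨a, -, rfl⟩ := Finset.mem_image.1 hg'
  exact ⟨a.1, a.2, rfl⟩

/-- Word in a pair of group elements. -/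
noncomputable def wordGrp (a b : pairGrp) (w : List ℕ) : pairGrp :=
  (w.map (nth 1 [a, b])).prod

theorem relImg_eq (i : Fin 133) (w : List ℕ) (p : ℕ) :
    relImg (nth (j1Ops.one, []) invReps i).1 w p =
      j1Sound.act ((wordGrp (invRep i) xE w : pairGrp) : _) p := by
  let L := w.map (nth j1Ops.one [(nth (j1Ops.one, []) invReps i).1, outX])
  have hk : ∀ k, j1Sound.ok (nth j1Ops.one [(nth (j1Ops.one, []) invReps i).1, outX] k) ∧
      j1Sound.den (nth j1Ops.one [(nth (j1Ops.one, []) invReps i).1, outX] k) =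
        ((nth 1 [invRep i, xE] k : pairGrp) : _) := fun k => match k with
    | 0 => ⟨(rep_facts i).1, rfl⟩
    | 1 => ⟨outX_ok.1, rfl⟩
    | (_ + 2) => ⟨j1Sound.ok_one, j1Sound.den_one⟩
  have hw : ∀ a ∈ L, j1Sound.ok a := by
    intro a ha
    obtain ⟨k, -, rfl⟩ := List.mem_map.1 ha
    exact (hk k).1
  show imgW j1Ops L p = _
  rw [imgW_eq j1Sound L hw]
  congr 1
  simp only [wden, wordGrp, L, SubmonoidClass.coe_list_prod, List.map_map]
  congr 1
  exact List.map_congr_left fun k _ => (hk k).2

theorem closure_gens : Subgroup.closure ({invRep 0, xE} : Set pairGrp) = ⊤ := by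
  have hgrp := genBy_sound j1Sound chain_ok outGen_ok fun a ha => by
    rcases List.mem_cons.1 ha with rfl | ha
    · exact (rep_facts 0).1
    · rw [List.mem_singleton] at ha; exact ha ▸ outX_ok.1
  rw [eq_top_iff]
  intro g _
  have hg' : (g : Equiv.Perm (Fin 266) × GL (Fin 7) (ZMod 11)) ∈
      (Subgroup.closure ({invRep 0, xE} : Set pairGrp)).map pairGrp.subtype := by
    rw [MonoidHom.map_closure]
    have hgm : (g : Equiv.Perm (Fin 266) × GL (Fin 7) (ZMod 11)) ∈ j1Sound.grp j1Chain := g.2
    rw [hgrp] at hgm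
    refine Subgroup.closure_mono ?_ hgm
    rintro _ ⟨b, hb, rfl⟩
    rcases List.mem_cons.1 hb with rfl | hb
    · exact ⟨invRep 0, Or.inl rfl, rfl⟩
    · rw [List.mem_singleton] at hb
      subst hb
      exact ⟨xE, Or.inr rfl, rfl⟩
  obtain ⟨k, hk, hke⟩ := hg'
  exact (Subtype.ext hke : k = g) ▸ hk

theorem aut_inner (α : MulAut pairGrp) : ∃ c, α = MulAut.conj c := by
  have ho : orderOf (α xE) = 11 := (MulEquiv.orderOf_eq α xE).trans orderOf_xE
  obtain ⟨i, hi⟩ := exists_isConj_rep (α xE)
  have key : ∀ k : Fin 15, (row k).2.1 = 11 → k = 9 := by decide +kernel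
  rw [key i ((orderOf_eq_rep _ i hi).symm.trans ho)] at hi
  obtain ⟨c, hc⟩ := isConj_iff.1 hi.symm
  let β : MulAut pairGrp := MulAut.conj c * α
  have hβx : β xE = xE := hc
  obtain ⟨k, j, hk⟩ := involution_cover (β (invRep 0))
    ((MulEquiv.orderOf_eq β (invRep 0)).trans (orderOf_invRep 0))
  let γ : MulAut pairGrp := MulAut.conj (xE ^ j)⁻¹ * β
  have hγx : γ xE = xE := by
    show (xE ^ j)⁻¹ * β xE * ((xE ^ j)⁻¹)⁻¹ = xE
    rw [hβx, inv_inv, mul_assoc, ← pow_succ', pow_succ, inv_mul_cancel_left]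
  have hγt : γ (invRep 0) = invRep k := by
    show (xE ^ j)⁻¹ * β (invRep 0) * ((xE ^ j)⁻¹)⁻¹ = _
    rw [hk, inv_inv]
    simp only [mul_assoc, inv_mul_cancel_left, inv_mul_cancel, mul_one]
  have hk0 : k = 0 := by
    by_contra hne
    have hlen : (k : ℕ) < invReps.length := invReps_length.symm ▸ k.2
    have hmem : nth (j1Ops.one, []) invReps k ∈ invReps.tail := by
      obtain ⟨hd, tl, hcons⟩ : ∃ hd tl, invReps = hd :: tl :=
        List.exists_cons_of_ne_nil fun e => by
          have h0 := congrArg List.length e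
          rw [invReps_length] at h0
          simp at h0
      obtain ⟨m, hm⟩ : ∃ m, (k : ℕ) = m + 1 :=
        Nat.exists_eq_succ_of_ne_zero fun e => hne (Fin.ext e)
      have htl : tl.length = 132 := by
        have := congrArg List.length hcons
        rw [invReps_length, List.length_cons] at this
        omega
      rw [hm, hcons]
      exact nth_mem (j1Ops.one, []) tl m (by have := k.2; omega)
    have h := (lall_iff _ _).1 rels_ok _ hmem
    generalize hw : (nth (j1Ops.one, []) invReps (k : ℕ)).2 = w at h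
    simp only [Bool.and_eq_true, lall_iff, Nat.beq_eq, Bool.not_eq_true'] at h
    have h0 : wordGrp (invRep 0) xE w = 1 := by
      refine Subtype.ext (eq_of_bases j1Sound chain_ok (wordGrp (invRep 0) xE w).2
        (Subgroup.one_mem _) fun b hb => ?_)
      rw [Subgroup.coe_one, j1Sound.act_one, ← relImg_eq 0 w b]
      exact h.1 b hb
    have hk1 : wordGrp (invRep k) xE w = 1 := by
      have : γ (wordGrp (invRep 0) xE w) = wordGrp (γ (invRep 0)) (γ xE) w := by
        rw [wordGrp, wordGrp, map_list_prod, List.map_map]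
        congr 1
        refine List.map_congr_left fun m _ => ?_
        match m with
        | 0 => rfl
        | 1 => rfl
        | (_ + 2) => exact map_one γ
      rw [h0, map_one, hγt, hγx] at this
      exact this.symm
    have h2 := h.2
    rw [(lall_iff _ _).2 fun b hb => by
      rw [relImg_eq k w b, hk1, Subgroup.coe_one, j1Sound.act_one]; exact Nat.beq_refl _] at h2
    simp at h2
  subst hk0
  have hγ1 : γ = 1 := by
    refine MulEquiv.toMonoidHom_injective (MonoidHom.eq_of_eqOn_dense closure_gens ?_)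
    rintro z (rfl | rfl)
    · exact hγt
    · exact hγx
  refine ⟨c⁻¹ * xE ^ j, ?_⟩
  have hinv : ∀ g : pairGrp, MulAut.conj g⁻¹ = (MulAut.conj g)⁻¹ := fun g =>
    map_inv (MulAut.conj : pairGrp →* MulAut pairGrp) g
  have h1 : β = MulAut.conj (xE ^ j) := by
    have : (MulAut.conj (xE ^ j))⁻¹ * β = 1 := hinv (xE ^ j) ▸ hγ1
    exact (inv_mul_eq_one.1 this).symm
  rw [map_mul, ← h1, hinv]
  exact (inv_mul_cancel_left _ _).symm

theorem card_out_J1 : Nat.card (Cfsg.Out ↥Cfsg.Spor.J1) = 1 := by
  obtain ⟨e⟩ := nonempty_equiv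
  have htop : Cfsg.Inn ↥Cfsg.Spor.J1 = ⊤ := by
    rw [eq_top_iff]
    intro α _
    obtain ⟨c, hc⟩ := aut_inner ((e.trans α).trans e.symm)
    refine ⟨e c, ?_⟩
    ext1 y
    obtain ⟨z, rfl⟩ := e.surjective y
    have h := congrArg (fun f : MulAut pairGrp => e (f z)) hc
    simp only [MulEquiv.trans_apply, MulEquiv.apply_symm_apply, MulAut.conj_apply, map_mul,
      map_inv] at h
    exact h.symm
  rw [Cfsg.Out, htop]
  have : Subsingleton (MulAut ↥Cfsg.Spor.J1 ⧸ (⊤ : Subgroup (MulAut ↥Cfsg.Spor.J1))) :=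
    QuotientGroup.subsingleton_quotient_top
  exact Nat.card_unique

end Cfsg.Agent.Compute.J1
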